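import Mathlib
import Cfsg.Agent.Lib.Std.Alt1

/-! Images of `SL₂(3)` modulo a central `3`-group (after `Lib/Std/Alt1`). -/

set_option autoImplicit false
set_option linter.style.haveILetI false

namespace H60.Sol

open Subgroup Equiv Equiv.Perm

/-- a quaternion group with centre `s` and a `3`-element `x` acting on it -/
structure Tw {Γ : Type*} [Group Γ] (s x a : Γ) : Prop where
  x3 : ∃ k : ℕ, x ^ 3 ^ k = 1
  a2 : a * a = s
  s2 : s * s = 1
  xs : Commute x s
  rel : a * (x * a * x⁻¹) = x * (x * a * x⁻¹) * x⁻¹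

theorem tw_of_tr {Γ : Type*} [Group Γ] {s x a : Γ} (h : H10.Std.Tr s x a) : Tw s x a :=
  ⟨⟨1, by rw [pow_one, h.x3]⟩, h.a2, h.s2, h.xs, h.rel⟩

namespace Tw


variable {Γ : Type*} [Group Γ] {s x a : Γ}

theorem as (h : Tw s x a) : Commute a s := by rw [← h.a2]; exact (Commute.refl a).mul_right (.refl a)

theorem b2 (h : Tw s x a) : x * a * x⁻¹ * (x * a * x⁻¹) = s := by
  rw [conj_mul, h.a2, h.xs.eq]; group

theorem c2 (h : Tw s x a) : a * (x * a * x⁻¹) * (a * (x * a * x⁻¹)) = s := by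
  rw [h.rel, conj_mul, h.b2, h.xs.eq]; group

theorem bs (h : Tw s x a) : Commute (x * a * x⁻¹) s := (h.xs.mul_left h.as).mul_left h.xs.inv_left

theorem ba (h : Tw s x a) : x * a * x⁻¹ * a = a * (x * a * x⁻¹) * s := by
  have e := h.c2
  have e2 := h.b2
  have e3 := h.bs
  generalize x * a * x⁻¹ = b at e e2 e3
  calc b * a = a⁻¹ * (a * b * (a * b)) * b⁻¹ := by group
    _ = a * ((a * a)⁻¹ * s) * b * (b * b)⁻¹ := by rw [e]; group
    _ = _ := by rw [h.a2, e2, inv_mul_cancel, mul_one, inv_eq_of_mul_eq_one_right h.s2]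

theorem x3a (h : Tw s x a) : x * (x * (x * a * x⁻¹) * x⁻¹) * x⁻¹ = a := by
  rw [← h.rel, ← conj_mul, ← h.rel, ← mul_assoc, h.ba, mul_assoc, ← h.bs.eq, ← mul_assoc, mul_assoc a,
    h.b2, mul_assoc, h.s2, mul_one]

theorem y3 (h : Tw s x a) : ∃ k : ℕ, (x⁻¹ * a) ^ 3 ^ k = 1 := by
  have e := h.x3a
  have e1 : x⁻¹ * a * x = a * (x * a * x⁻¹) := by
    rw [h.rel]; nth_rw 1 [← e]; group
  have e2 : x⁻¹ * (x⁻¹ * a * x) * x = x * a * x⁻¹ := by
    nth_rw 1 [← e]; group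
  have e3 : x⁻¹ * (x⁻¹ * (x⁻¹ * a * x) * x) * x = a := by rw [e2]; group
  have e4 : (x⁻¹ * a) ^ 3 = (x ^ 3)⁻¹ := by
    calc _ = x⁻¹ * a * x * (x⁻¹ * (x⁻¹ * a * x) * x) * (x⁻¹ * (x⁻¹ * (x⁻¹ * a * x) * x) * x) *
        (x ^ 3)⁻¹ := by rw [pow_succ, pow_two, pow_succ, pow_two]; group
      _ = _ := by
        rw [e3, e2, e1, mul_assoc a, h.b2, h.as.eq, mul_assoc s, h.a2, h.s2, one_mul]
  obtain ⟨k, hk⟩ := h.x3
  exact ⟨k + 1, by rw [pow_succ', pow_mul, e4, inv_pow, ← pow_mul, mul_comm, pow_mul, hk, one_pow, inv_one]⟩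

/-- the elements of the quaternion subgroup -/
def Qs (x a g : Γ) : Prop := ∃ i : ℤ, g = a ^ i ∨ g = a ^ i * (x * a * x⁻¹)

theorem a4 (h : Tw s x a) : a ^ (4 : ℤ) = 1 := by
  rw [← h.s2, ← h.a2, show (4 : ℤ) = 2 + 2 from rfl, zpow_add, zpow_two]

theorem b_pow (h : Tw s x a) (i : ℤ) : x * a * x⁻¹ * a ^ i = a ^ (-i) * (x * a * x⁻¹) := by
  have e : x * a * x⁻¹ * a * (x * a * x⁻¹)⁻¹ = a⁻¹ := by
    rw [h.ba, mul_assoc a, h.bs.eq, ← mul_assoc, mul_inv_cancel_right, eq_inv_iff_mul_eq_one, h.as.eq,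
      mul_assoc, h.a2, h.s2]
  rw [zpow_neg, ← inv_zpow, ← e, conj_zpow]; group

theorem Qs.mul (h : Tw s x a) {g g' : Γ} (hg : Qs x a g) (hg' : Qs x a g') : Qs x a (g * g') := by
  obtain ⟨i, rfl | rfl⟩ := hg <;> obtain ⟨j, rfl | rfl⟩ := hg'
  · exact ⟨i + j, Or.inl (by group)⟩
  · exact ⟨i + j, Or.inr (by group)⟩
  · exact ⟨i + -j, Or.inr (by rw [mul_assoc, h.b_pow]; group)⟩
  · refine ⟨i + -j + 2, Or.inl ?_⟩
    rw [mul_assoc, ← mul_assoc (x * a * x⁻¹), h.b_pow, mul_assoc (a ^ (-j)), h.b2, ← h.a2]; group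

theorem Qs.inv (h : Tw s x a) {g : Γ} (hg : Qs x a g) : Qs x a g⁻¹ := by
  obtain ⟨i, rfl | rfl⟩ := hg
  · exact ⟨-i, Or.inl (by group)⟩
  · refine ⟨i + 2, Or.inr ?_⟩
    rw [inv_eq_iff_mul_eq_one, mul_assoc, ← mul_assoc (x * a * x⁻¹), h.b_pow, mul_assoc (a ^ (-(i + 2))),
      h.b2, ← h.a2]
    group

theorem pow_cases (h : Tw s x a) (i : ℤ) : a ^ i = 1 ∨ a ^ i = s ∨ a ^ i = a ∨ a ^ i = a * s := by
  have e : a ^ i = a ^ (i % 4) := by
    conv_lhs => rw [← Int.emod_add_mul_ediv i 4, zpow_add, zpow_mul, h.a4, one_zpow, mul_one]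
  rw [e, ← h.a2]
  have : i % 4 = 0 ∨ i % 4 = 2 ∨ i % 4 = 1 ∨ i % 4 = 3 := by omega
  rcases this with e | e | e | e <;> rw [e]
  · left; group
  · right; left; exact zpow_two a
  · right; right; left; group
  · right; right; right; rw [show (3 : ℤ) = 1 + 2 from rfl, zpow_add, zpow_two, zpow_one]

theorem Qs.cases (h : Tw s x a) {g : Γ} (hg : Qs x a g) : g = 1 ∨ g = s ∨
    ∃ r, (r = a ∨ r = x * a * x⁻¹ ∨ r = x * (x * a * x⁻¹) * x⁻¹) ∧ (g = r ∨ g = r * s) := by
  obtain ⟨i, rfl | rfl⟩ := hg <;> rcases h.pow_cases i with e | e | e | e <;> rw [e]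
  · exact Or.inl rfl
  · exact Or.inr (Or.inl rfl)
  · exact Or.inr (Or.inr ⟨_, Or.inl rfl, Or.inl rfl⟩)
  · exact Or.inr (Or.inr ⟨_, Or.inl rfl, Or.inr rfl⟩)
  · exact Or.inr (Or.inr ⟨_, Or.inr (Or.inl rfl), Or.inl (one_mul _)⟩)
  · exact Or.inr (Or.inr ⟨_, Or.inr (Or.inl rfl), Or.inr h.bs.eq.symm⟩)
  · exact Or.inr (Or.inr ⟨_, Or.inr (Or.inr rfl), Or.inl h.rel⟩)
  · exact Or.inr (Or.inr ⟨_, Or.inr (Or.inr rfl), Or.inr (by
      rw [← h.rel, mul_assoc a, mul_assoc a, h.bs.eq])⟩)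

theorem Qs.sq (h : Tw s x a) {g : Γ} (hg : Qs x a g) : g = 1 ∨ g = s ∨ g * g = s := by
  rcases hg.cases h with e | e | ⟨r, hr, e⟩
  · exact Or.inl e
  · exact Or.inr (Or.inl e)
  have : r * r = s ∧ Commute r s := by
    rcases hr with rfl | rfl | rfl
    exacts [⟨h.a2, h.as⟩, ⟨h.b2, h.bs⟩, h.rel ▸ ⟨h.c2, h.as.mul_left h.bs⟩]
  right; right
  rcases e with rfl | rfl
  · exact this.1
  · rw [mul_assoc, ← mul_assoc s, ← this.2.eq, mul_assoc, h.s2, mul_one, this.1]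

theorem Qs.comm {g v : Γ} (hg : Qs x a g) (hx : Commute v x) (ha : Commute v a) : Commute v g := by
  obtain ⟨i, rfl | rfl⟩ := hg
  · exact ha.zpow_right i
  · exact (ha.zpow_right i).mul_right ((hx.mul_right ha).mul_right hx.inv_right)

theorem Qs.comm' {g v : Γ} (hg : Qs x a g) (ha : Commute v a) (hb : Commute v (x * a * x⁻¹)) :
    Commute v g := by
  obtain ⟨i, rfl | rfl⟩ := hg
  · exact ha.zpow_right i
  · exact (ha.zpow_right i).mul_right hb

theorem Qs.comm_s (h : Tw s x a) {g : Γ} (hg : Qs x a g) : Commute s g := hg.comm h.xs.symm h.as.symm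

theorem Qs.conj (h : Tw s x a) {g : Γ} (hg : Qs x a g) : Qs x a (x * g * x⁻¹) := by
  have hb : ∀ i : ℤ, Qs x a ((x * a * x⁻¹) ^ i) := fun i => by
    induction i using Int.induction_on with
    | zero => exact ⟨0, Or.inl (by simp)⟩
    | succ i ih => rw [zpow_add_one]; exact ih.mul h ⟨0, Or.inr (by simp)⟩
    | pred i ih => rw [zpow_sub_one]; exact ih.mul h (Qs.inv h ⟨0, Or.inr (by simp)⟩)
  obtain ⟨i, rfl | rfl⟩ := hg
  · rw [← conj_zpow]; exact hb i
  · rw [← conj_mul, ← conj_zpow, ← h.rel]; exact (hb i).mul h ⟨1, Or.inr (by simp)⟩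

theorem not_comm (h : Tw s x a) (hs : s ≠ 1) : ¬ Commute a (x * a * x⁻¹) := fun c => hs (by
  have := h.ba
  rwa [← c.eq, left_eq_mul] at this)

theorem Qs.of_comm (h : Tw s x a) (hs : s ≠ 1) {g : Γ} (hg : Qs x a g) (c : Commute x g) :
    g = 1 ∨ g = s := by
  rcases hg.cases h with e | e | ⟨r, hr, e⟩
  · exact Or.inl e
  · exact Or.inr e
  have c1 : Commute x r := by
    rcases e with rfl | rfl
    · exact c
    · simpa using c.mul_right h.xs.inv_right
  have c2 : Commute x a := by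
    have k : ∀ {r}, Commute x (x * r * x⁻¹) → Commute x r := fun {r} c => by
      simpa [mul_assoc] using ((Commute.refl x).inv_right.mul_right c).mul_right (Commute.refl x)
    rcases hr with rfl | rfl | rfl
    exacts [c1, k c1, k (k c1)]
  exact absurd (by rw [c2.eq, mul_inv_cancel_right]) (h.not_comm hs)

/-- the quaternion subgroup -/
def QS (h : Tw s x a) : Subgroup Γ where
  carrier := {g | Qs x a g}
  one_mem' := ⟨0, Or.inl (by simp)⟩
  mul_mem' := fun hg hg' => hg.mul h hg'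
  inv_mem' := fun hg => hg.inv h

theorem a_mem (h : Tw s x a) : a ∈ h.QS := ⟨1, Or.inl (by simp)⟩

theorem b_mem (h : Tw s x a) : x * a * x⁻¹ ∈ h.QS := ⟨0, Or.inr (by simp)⟩

theorem s_mem (h : Tw s x a) : s ∈ h.QS := by
  have := mul_mem h.a_mem h.a_mem
  rwa [h.a2] at this

theorem QS_le (h : Tw s x a) {H : Subgroup Γ} (ha : a ∈ H) (hb : x * a * x⁻¹ ∈ H) : h.QS ≤ H := by
  rintro _ ⟨i, rfl | rfl⟩
  exacts [zpow_mem ha i, mul_mem (zpow_mem ha i) hb]

theorem QS_two (h : Tw s x a) : IsPGroup 2 h.QS := by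
  rintro ⟨g, hg⟩
  refine ⟨2, Subtype.ext ?_⟩
  show g ^ (2 * 2) = 1
  rw [pow_mul, pow_two g]
  rcases Qs.sq h hg with e | e | e
  · rw [e]; simp
  · rw [e, h.s2]; simp
  · rw [e, pow_two, h.s2]

/-- eight elements of the quaternion group -/
def w (x a : Γ) (i : Fin 4 × Bool) : Γ := a ^ (i.1 : ℤ) * (if i.2 then x * a * x⁻¹ else 1)

theorem w_mem (i : Fin 4 × Bool) : Qs x a (w x a i) := by
  obtain ⟨i, _ | _⟩ := i
  exacts [⟨i, Or.inl (by simp [w])⟩, ⟨i, Or.inr (by simp [w])⟩]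

theorem w_inj (h : Tw s x a) (hs : s ≠ 1) : Function.Injective (w x a) := by
  have o : orderOf a = 4 := by
    refine orderOf_eq_prime_pow (p := 2) (n := 1) (by rw [pow_one, pow_two, h.a2]; exact hs) ?_
    exact_mod_cast h.a4
  have k : ∀ i j : Fin 4, a ^ (i : ℤ) = a ^ (j : ℤ) → i = j := fun i j e => by
    rw [zpow_natCast, zpow_natCast, pow_inj_mod, o, Nat.mod_eq_of_lt i.2, Nat.mod_eq_of_lt j.2] at e
    exact Fin.ext e
  have k2 : ∀ i j : ℤ, a ^ i ≠ a ^ j * (x * a * x⁻¹) := fun i j e => h.not_comm hs (by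
    rw [← inv_mul_eq_iff_eq_mul.2 e]
    exact ((Commute.refl a).zpow_right j).inv_right.mul_right ((Commute.refl a).zpow_right i))
  rintro ⟨i, _ | _⟩ ⟨j, _ | _⟩ e <;> simp only [w, if_true, Bool.false_eq_true, if_false, mul_one] at e
  · rw [k i j e]
  · exact absurd e (k2 _ _)
  · exact absurd e.symm (k2 _ _)
  · rw [k i j (mul_right_cancel e)]

variable {Ω : Type*} [DecidableEq Ω] [Fintype Ω] {s x a : Perm Ω}

omit [DecidableEq Ω] [Fintype Ω] in
theorem Qs.eq_one (h : Tw s x a) {g : Perm Ω} (hg : Qs x a g) {p : Ω} (hp : s p ≠ p) (e : g p = p) :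
    g = 1 := by
  rcases hg.sq h with rfl | rfl | e2
  · rfl
  · exact absurd e hp
  · exact absurd (by rw [← e2, mul_apply, e, e]) hp

omit [DecidableEq Ω] [Fintype Ω] in
theorem mv {v : Perm Ω} (c : Commute s v) {p : Ω} (hp : s p ≠ p) : s (v p) ≠ v p := fun e =>
  hp (v.injective (by rw [← mul_apply, ← c.eq, mul_apply, e]))

omit [DecidableEq Ω] [Fintype Ω] in
theorem w_inj' (h : Tw s x a) {p : Ω} (hp : s p ≠ p) : Function.Injective fun i => w x a i p :=
  fun i j e => h.w_inj (fun c => hp (by rw [c, one_apply])) (by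
    have := ((w_mem j).inv h).mul h (w_mem i) |>.eq_one h hp (by
      rw [mul_apply, show w x a i p = w x a j p from e]; simp)
    exact (inv_mul_eq_one.1 this).symm)

theorem eight (h : Tw s x a) (hs : s ≠ 1) : 8 ≤ s.support.card := by
  obtain ⟨p, hp⟩ : ∃ p, s p ≠ p := by
    by_contra c
    push Not at c
    exact hs (Equiv.ext c)
  have := Finset.card_le_card_of_injOn (s := Finset.univ) (t := s.support) (fun i => w x a i p)
    (fun i _ => mem_support.2 (mv ((w_mem i).comm_s h) hp)) (h.w_inj' hp).injOn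
  simpa using this

theorem fix_aux (h : Tw s x a) {q : ℕ} (hq : q.Prime) (h2 : q ≠ 2) {v : Perm Ω}
    (ca : Commute v a) (cb : Commute v (x * a * x⁻¹)) (hc : s.support.card < 8 * q) {p : Ω} (hp : s p ≠ p)
    (hv : (v ^ q) p = p) : v p = p := by
  have cs : Commute s v := by rw [← h.a2]; exact ca.symm.mul_left ca.symm
  obtain ⟨⟨i, k⟩, -, ⟨j, l⟩, -, hne, e⟩ := Finset.exists_ne_map_eq_of_card_lt_of_maps_to
    (s := (Finset.univ : Finset ((Fin 4 × Bool) × Fin q))) (t := s.support) (by simpa using hc)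
    (f := fun i => w x a i.1 ((v ^ (i.2 : ℕ)) p))
    (fun i _ => mem_support.2 (mv ((w_mem _).comm_s h) (mv (cs.pow_right _) hp)))
  have hg := ((w_mem (x := x) (a := a) j).inv h).mul h (w_mem i)
  set g := (w x a j)⁻¹ * w x a i
  have e1 : g ((v ^ (k : ℕ)) p) = (v ^ (l : ℕ)) p := by
    rw [mul_apply, show w x a i ((v ^ (k : ℕ)) p) = _ from e]; simp
  by_cases hkl : k = l
  · subst hkl
    have := hg.eq_one h (mv (cs.pow_right _) hp) e1
    exact absurd (by rw [h.w_inj (fun c => hp (by rw [c, one_apply])) (inv_mul_eq_one.1 this)]) hne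
  have cg : Commute v g := hg.comm' ca cb
  have g4 : g ^ 4 = 1 := by
    rw [show 4 = 2 * 2 from rfl, pow_mul, pow_two g]
    rcases hg.sq h with e | e | e
    · rw [e]; simp
    · rw [e, h.s2]; simp
    · rw [e, pow_two, h.s2]
  have e2 : (g * v ^ ((k : ℤ) - l)) p = p := by
    apply (v ^ (l : ℕ)).injective
    rw [← e1, ← mul_apply, ← mul_apply, ← mul_assoc, (cg.pow_left _).eq, mul_assoc, ← zpow_natCast,
      ← zpow_add, ← zpow_natCast]
    congr 3; ring
  have e3 : (v ^ (((k : ℤ) - l) * 4)) p = p := by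
    have := pow_apply_eq_self_of_apply_eq_self e2 4
    rwa [(cg.zpow_left _).symm.mul_pow, g4, one_mul, ← zpow_natCast, ← zpow_mul] at this
  have cop : IsCoprime (((k : ℤ) - l) * 4) (q : ℤ) := by
    refine IsCoprime.symm ((Nat.prime_iff_prime_int.1 hq).irreducible.coprime_iff_not_dvd.2 fun d => ?_)
    rcases (Nat.prime_iff_prime_int.1 hq).dvd_or_dvd d with d | d
    · have := k.2
      have := l.2
      have := Int.eq_zero_of_abs_lt_dvd d (by rw [abs_lt]; constructor <;> omega)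
      exact hkl (Fin.ext (by omega))
    · have : q ∣ 2 ^ 2 := by exact_mod_cast d
      exact h2 ((Nat.prime_dvd_prime_iff_eq hq Nat.prime_two).1 (hq.dvd_of_dvd_pow this))
  obtain ⟨m, n, hmn⟩ := cop
  have : v = (v ^ (((k : ℤ) - l) * 4)) ^ m * (v ^ q) ^ n := by
    conv_lhs => rw [← zpow_one v, ← hmn, zpow_add, mul_comm n, zpow_mul v q, zpow_natCast, mul_comm m,
      zpow_mul]
  rw [this, mul_apply, zpow_apply_eq_self_of_apply_eq_self hv n]
  exact zpow_apply_eq_self_of_apply_eq_self e3 m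

theorem fix_of_prime (h : Tw s x a) {q : ℕ} (hq : q.Prime) (h2 : q ≠ 2) (hc : s.support.card < 8 * q)
    {p : Ω} (hp : s p ≠ p) (k : ℕ) : ∀ {v : Perm Ω}, v ^ q ^ k = 1 → Commute v a →
    Commute v (x * a * x⁻¹) → v p = p := by
  induction k with
  | zero => intro v hv _ _; rw [pow_zero, pow_one] at hv; rw [hv, one_apply]
  | succ k ih =>
    intro v hv ca cb
    exact h.fix_aux hq h2 ca cb hc hp (ih (by rw [← pow_mul, ← pow_succ', hv]) (ca.pow_left q)
      (cb.pow_left q))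

theorem onto (h : Tw s x a) (hc : s.support.card = 8) {q p : Ω} (hq : s q ≠ q) (hp : s p ≠ p) :
    ∃ g, Qs x a g ∧ g q = p := by
  obtain ⟨i, -, hi⟩ := Finset.surj_on_of_inj_on_of_card_le (s := Finset.univ) (t := s.support)
    (fun i _ => w x a i q) (fun i _ => mem_support.2 (mv ((w_mem i).comm_s h) hq))
    (fun i j _ _ e => h.w_inj' hq e) (by simp [hc]) p (mem_support.2 hp)
  exact ⟨_, w_mem i, hi.symm⟩

theorem cent (h : Tw s x a) (hc : s.support.card = 8) {v : Perm Ω} (cx : Commute v x) (ca : Commute v a) :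
    (∀ p, s p ≠ p → v p = p) ∨ ∀ p, s p ≠ p → (v * s) p = p := by
  haveI := Fact.mk Nat.prime_three
  obtain ⟨n, hn⟩ := h.x3
  obtain ⟨⟨q, hq⟩, e⟩ := exists_fixed_point_of_prime (p := 3) (n := n) (α := {p // s p ≠ p})
    (by rw [Fintype.card_of_subtype s.support fun _ => mem_support, hc]; decide)
    (σ := x.subtypePerm fun p => ⟨fun c => by simpa using mv h.xs.symm.inv_right c, mv h.xs.symm⟩)
    (by rw [subtypePerm_pow]; ext; simp [hn])
  have e : x q = q := congrArg Subtype.val e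
  have onto : ∀ p, s p ≠ p → ∃ g, Qs x a g ∧ g q = p := fun p hp => h.onto hc hq hp
  have key : ∀ u : Perm Ω, Commute u x → Commute u a → u q = q → ∀ p, s p ≠ p → u p = p :=
    fun u ux ua uq p hp => by
      obtain ⟨g, hg, rfl⟩ := onto p hp
      rw [← mul_apply, (hg.comm ux ua).eq, mul_apply, uq]
  have cs : Commute s v := by rw [← h.a2]; exact ca.symm.mul_left ca.symm
  obtain ⟨g, hg, e1⟩ := onto _ (mv cs hq)
  have e2 := ((hg.inv h).mul h (hg.conj h)).eq_one h hq (by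
    rw [mul_apply, mul_apply, mul_apply, show x⁻¹ q = q from inv_eq_iff_eq.2 e.symm, e1, ← mul_apply x,
      ← cx.eq, mul_apply, e, ← e1]
    simp)
  rcases hg.of_comm h (fun c => hq (by rw [c, one_apply]))
    (by rw [inv_mul_eq_one, eq_mul_inv_iff_mul_eq] at e2; exact e2.symm) with rfl | rfl
  · exact Or.inl (key v cx ca e1.symm)
  · refine Or.inr (key _ (cx.mul_left h.xs.symm) (ca.mul_left h.as.symm) ?_)
    rw [← cs.eq, mul_apply, ← e1, ← mul_apply, h.s2, one_apply]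

/-- a group of odd order normalised by the quaternion group and centralised by `s` fixes the support -/
theorem fix_of_odd (h : Tw s x a) (hc : s.support.card = 8) {N : Subgroup (Perm Ω)}
    (ho : ∀ y ∈ N, Odd (orderOf y)) (hs : ∀ y ∈ N, Commute s y)
    (hn : ∀ g, Qs x a g → ∀ y ∈ N, g * y * g⁻¹ ∈ N) {y : Perm Ω} (hy : y ∈ N) {p : Ω} (hp : s p ≠ p) :
    y p = p := by
  have key : ∀ y ∈ N, y p ≠ s p := fun y hy e => by
    obtain ⟨m, hm⟩ := ho y hy
    have e2 : (y ^ 2) p = p := by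
      rw [pow_two, mul_apply, e, ← mul_apply, ← (hs y hy).eq, mul_apply, e, ← mul_apply, h.s2, one_apply]
    have e3 : (y ^ (2 * m + 1)) p = p := by rw [← hm, pow_orderOf_eq_one, one_apply]
    rw [pow_succ', mul_apply, pow_mul, pow_apply_eq_self_of_apply_eq_self e2 m, e] at e3
    exact hp e3
  obtain ⟨g, hg, e⟩ := h.onto hc hp (mv (hs y hy) hp)
  rcases hg.sq h with rfl | rfl | e2
  · exact e.symm
  · exact absurd e.symm (key y hy)
  · refine absurd ?_ (key _ (mul_mem (hn g hg y hy) hy))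
    rw [mul_apply, ← e, mul_apply, mul_apply, ← mul_apply g⁻¹, inv_mul_cancel, one_apply, ← e, ← e2,
      mul_apply]

end Tw

end H60.Sol
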