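import Mathlib
import Cfsg.Agent.Lib.Sol.Tw
import Cfsg.Agent.Lib.Term57.Pair
import Cfsg.Agent.Lib.Invol.Dihedral

/-! Lifting elements along a map with kernel of odd order. -/

set_option autoImplicit false
set_option linter.style.haveILetI false

namespace H60.Sol

open Subgroup Cfsg H68 H44 H57.Term

variable {G : Type*} [Group G]

instance fact2 : Fact (Nat.Prime 2) := ⟨Nat.prime_two⟩

/-- elements of `2`-power order -/
def E2 (x : G) : Prop := ∃ k : ℕ, x ^ 2 ^ k = 1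

theorem E2.pg {x : G} (h : E2 x) : IsPGroup 2 (zpowers x) := by
  obtain ⟨k, hk⟩ := h
  exact isPGroup_zpowers hk

theorem E2.of_sq {x : G} (h : x * x = 1) : E2 x := ⟨1, by rw [pow_one, pow_two, h]⟩

theorem E2.of_mem {P : Subgroup G} (hP : IsPGroup 2 P) {x : G} (h : x ∈ P) : E2 x :=
  isPGroup_iff_forall.1 hP x h

theorem E2.mul {x y : G} (hx : E2 x) (hy : E2 y) (c : Commute x y) : E2 (x * y) := by
  obtain ⟨k, hk⟩ := hx
  obtain ⟨l, hl⟩ := hy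
  exact ⟨k + l, by rw [c.mul_pow, pow_add, pow_mul, hk, mul_comm (2 ^ k), pow_mul, hl]; simp⟩

theorem E2.inv {x : G} (hx : E2 x) : E2 x⁻¹ := by
  obtain ⟨k, hk⟩ := hx
  exact ⟨k, by rw [inv_pow, hk, inv_one]⟩

theorem E2.conj {x : G} (hx : E2 x) (g : G) : E2 (g * x * g⁻¹) := by
  obtain ⟨k, hk⟩ := hx
  exact ⟨k, by rw [conj_pow, hk]; group⟩

theorem E2.of_mul_self {x : G} (hx : E2 (x * x)) : E2 x := by
  obtain ⟨k, hk⟩ := hx
  exact ⟨k + 1, by rw [pow_succ', pow_mul, pow_two, hk]⟩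

theorem E2.eq_one_of_odd {x : G} (hx : E2 x) (ho : Odd (orderOf x)) : x = 1 := by
  obtain ⟨k, hk⟩ := hx
  exact orderOf_eq_one_iff.1 (Nat.Coprime.eq_one_of_dvd
    (Nat.Coprime.pow_right k (Nat.coprime_two_right.2 ho)) (orderOf_dvd_of_pow_eq_one hk))

theorem odd_of_mem {O : Subgroup G} (hO : (Nat.card O).Coprime 2) {x : G} (h : x ∈ O) : Odd (orderOf x) :=
  Nat.coprime_two_right.1 (hO.coprime_dvd_left (orderOf_dvd_natCard O h))

theorem odd_core [Finite G] {H : Subgroup G} {x : G} (h : x ∈ coreOf 2 H) : Odd (orderOf x) :=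
  odd_of_mem (coprime_card_coreOf 2 H) h

theorem E2.eq_one [Finite G] {x : G} (hx : E2 x) {H : Subgroup G} (h : x ∈ coreOf 2 H) : x = 1 :=
  hx.eq_one_of_odd (odd_core h)

theorem E2.exists_inv {x : G} (hx : E2 x) (h1 : x ≠ 1) : ∃ m : ℕ, x ^ m ≠ 1 ∧ x ^ m * x ^ m = 1 := by
  obtain ⟨k, hk⟩ := hx
  induction k with
  | zero => exact absurd (by simpa using hk) h1
  | succ k ih =>
    by_cases e : x ^ 2 ^ k = 1
    · exact ih e
    · exact ⟨2 ^ k, e, by rw [← pow_add, ← two_mul, ← pow_succ', hk]⟩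

/-- an involution times a commuting element of odd order generates the involution -/
theorem mem_of_mul_odd {t o : G} (t2 : t * t = 1) (c : Commute t o) (ho : Odd (orderOf o)) {H : Subgroup G}
    (h : t * o ∈ H) : t ∈ H := by
  have := pow_mem h (orderOf o)
  obtain ⟨k, hk⟩ := ho
  rwa [c.mul_pow, pow_orderOf_eq_one, mul_one, hk, pow_succ, pow_mul, pow_two, t2, one_pow, one_mul] at this

theorem pg_sup {A B : Subgroup G} (hA : IsPGroup 2 A) (hB : IsPGroup 2 B) (h : A ≤ centralizer (B : Set G)) :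
    IsPGroup 2 (A ⊔ B : Subgroup G) :=
  hA.to_sup_of_normal_right' hB (h.trans (centralizer_le_normalizer _))

theorem zp_le {A : Subgroup G} {x : G} (h : A ≤ C1 x) : A ≤ centralizer (zpowers x : Set G) := by
  rwa [H44.centralizer_zpowers]

theorem pg_zp {A : Subgroup G} (hA : IsPGroup 2 A) {x : G} (hx : E2 x) (h : A ≤ C1 x) :
    IsPGroup 2 (A ⊔ zpowers x : Subgroup G) := pg_sup hA hx.pg (zp_le h)

theorem zp_C1 {x y : G} (h : Commute x y) : zpowers x ≤ C1 y := zpowers_le.2 (mem_C1.2 h)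

theorem pg_two {x y : G} (hx : E2 x) (hy : E2 y) (c : Commute x y) :
    IsPGroup 2 (zpowers x ⊔ zpowers y : Subgroup G) := pg_zp hx.pg hy (zp_C1 c)

theorem memL {x : G} {B : Subgroup G} : x ∈ zpowers x ⊔ B := mem_sup_left (mem_zpowers x)

theorem memR {x : G} {B : Subgroup G} : x ∈ B ⊔ zpowers x := mem_sup_right (mem_zpowers x)

theorem cen_comm {T : Subgroup G} {x c : G} (h : x ∈ centralizer (T : Set G)) (hc : c ∈ T) : Commute c x :=
  mem_centralizer_iff.1 h c hc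

theorem exists_part [Finite G] {p : ℕ} (hp : p.Prime) (g : G) (j : ℕ) :
    ∃ m k : ℕ, (g ^ m) ^ p ^ k = 1 ∧ m ≡ 1 [MOD p ^ j] := by
  obtain ⟨e, r, hr, h⟩ := Nat.exists_eq_pow_mul_and_not_dvd (orderOf_pos g).ne' p hp.ne_one
  obtain ⟨m, h1, h2⟩ := Nat.chineseRemainder (Nat.Coprime.pow_right j (hp.coprime_iff_not_dvd.2 hr).symm) 0 1
  obtain ⟨c, rfl⟩ := (Nat.modEq_zero_iff_dvd).1 h1
  refine ⟨r * c, e, ?_, h2⟩
  rw [← pow_mul, show r * c * p ^ e = p ^ e * r * c by ring, ← h, pow_mul, pow_orderOf_eq_one, one_pow]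

theorem pow_of_modEq {y : G} {n m : ℕ} (h : y ^ n = 1) (hm : m ≡ 1 [MOD n]) : y ^ m = y := by
  rw [← pow_one y, ← pow_mul, one_mul, pow_eq_pow_iff_modEq]
  exact hm.of_dvd (orderOf_dvd_of_pow_eq_one h)

theorem inv_conj {i j : G} (hi : i * i = 1) (hj : j * j = 1) {O : Subgroup G} (hO : (Nat.card O).Coprime 2)
    (h : i * j ∈ O) : ∃ o ∈ O, o * i * o⁻¹ = j := by
  obtain ⟨m, hm⟩ := H9.exists_pow_conj_of_odd hi hj (odd_of_mem hO h)
  exact ⟨_, pow_mem h m, hm⟩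

variable [Finite G] {Q : Type*} [Group Q]

theorem lift_part (f : G →* Q) {p : ℕ} (hp : p.Prime) {P : Subgroup G} {g : G} (hg : g ∈ P) {j : ℕ}
    (h : f g ^ p ^ j = 1) : ∃ x ∈ P, f x = f g ∧ ∃ k : ℕ, x ^ p ^ k = 1 := by
  obtain ⟨m, k, h1, h2⟩ := exists_part hp g j
  exact ⟨_, pow_mem hg m, by rw [map_pow, pow_of_modEq h h2], k, h1⟩

theorem lift_syl (f : G →* Q) {P P0 : Subgroup G} {U : Subgroup Q} (hU : IsPGroup 2 U) (hP : U ≤ P.map f)
    (h0 : IsPGroup 2 P0) (h1 : P0 ≤ U.comap f ⊓ P) :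
    ∃ S, SylowIn 2 S (U.comap f ⊓ P) ∧ P0 ≤ S ∧ ∀ u ∈ U, ∃ s ∈ S, f s = u := by
  obtain ⟨S, hS, h2⟩ := exists_sylowIn_ge h0 h1
  refine ⟨S, hS, h2, fun u hu => ?_⟩
  have h3 := hS.map f
  rw [map_comap_inf_of_le hP] at h3
  exact (h3.eq_of_le hU h3.le le_rfl).le hu

theorem lift_tw (f : G →* Q) {P : Subgroup G} (hk : ∀ y ∈ P, f y = 1 → Odd (orderOf y)) {d : G}
    (hd : d ∈ P) (d2 : d * d = 1) (dc : ∀ l ∈ P, Commute l d) {x a : Q} (T : H10.Std.Tr (f d) x a)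
    (hx : x ∈ P.map f) (ha : a ∈ P.map f) : ∃ x' ∈ P, ∃ a' ∈ P, f x' = x ∧ f a' = a ∧ Tw d x' a' := by
  have T' := tw_of_tr T
  obtain ⟨S, hS, h1, h2⟩ := lift_syl f T'.QS_two
    (T'.QS_le ha (mul_mem (mul_mem hx ha) (inv_mem hx))) (E2.of_sq d2).pg
    (zpowers_le.2 ⟨T'.s_mem, hd⟩)
  have inj : ∀ s ∈ S, ∀ s' ∈ S, f s = f s' → s = s' := fun s hs s' hs' e => by
    have m := mul_mem (inv_mem hs) hs'
    exact inv_mul_eq_one.1 ((E2.of_mem hS.isPGroup m).eq_one_of_odd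
      (hk _ (hS.le m).2 (by rw [map_mul, map_inv, e, inv_mul_cancel])))
  obtain ⟨x0, hx0, rfl⟩ := mem_map.1 hx
  obtain ⟨n, hn, y, hy, e⟩ := hS.frattini (g := x0) (mem_normalizer_of_cj_le (cj_le_iff'.2
    fun g hg => mem_inf.2 ⟨by
      rw [mem_comap, map_mul, map_mul, map_inv]
      exact Tw.Qs.conj T' hg.1, mul_mem (mul_mem hx0 (mem_inf.1 hg).2) (inv_mem hx0)⟩))
  obtain ⟨s, hs, e1⟩ := h2 _ hn.1
  have hyP : y ∈ P := by
    have := mul_mem (inv_mem (mem_inf.1 hn).2) hx0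
    rwa [e, inv_mul_cancel_left] at this
  obtain ⟨x', hx', e2, k, hk3⟩ := lift_part f Nat.prime_three (P := normalizer (S : Set G) ⊓ P) (g := s * y)
    ⟨mul_mem (le_normalizer hs) hy, mul_mem (hS.le hs).2 hyP⟩ (j := 1)
    (by rw [map_mul, e1, ← map_mul, ← e, pow_one, T.x3])
  rw [map_mul, e1, ← map_mul, ← e] at e2
  obtain ⟨a', ha', rfl⟩ := h2 _ T'.a_mem
  have hb := conj_mem_of_mem_normalizer hx'.1 ha'
  refine ⟨x', hx'.2, a', (hS.le ha').2, e2, rfl, ⟨k, hk3⟩,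
    inj _ (mul_mem ha' ha') _ (h1 (mem_zpowers d)) (by rw [map_mul, T.a2]), d2, dc _ hx'.2,
    inj _ (mul_mem ha' hb) _ (conj_mem_of_mem_normalizer hx'.1 hb) ?_⟩
  simp only [map_mul, map_inv, e2]
  exact T.rel

end H60.Sol
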